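import Groth.Agent.H1Wild.Purity

/-!
# Purity at a prime of the base with regular localisation
-/

set_option maxHeartbeats 1000000

namespace Groth.Agent.SymSing

open Groth.Agent Groth.Agent.WQ7 Groth.Agent.Pi1Ext.RegPurity IsLocalRing Groth.Agent.H1Wild

universe u w

theorem inertia_eq_bot_of_regular {G : Type w} [Group G] [Finite G] {A : Type u} [CommRing A]
    (B : Type u) [CommRing B] [IsDomain B] [IsIntegrallyClosed B] [Algebra A B] [Module.Finite A B]
    [MulSemiringAction G B] [SMulCommClass G A B] [FaithfulSMul G B] [FaithfulSMul A B]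
    [Algebra.IsInvariant A B G] (q : Ideal A) [hq : q.IsPrime] [IsRegularLocalRing (Localization.AtPrime q)]
    (h1 : ∀ Q : Ideal B, Q.IsPrime → (Q.comap (algebraMap A B)).height ≤ 1 → Q.inertia G = ⊥)
    (P : Ideal B) (hP : P.IsPrime) (hPq : P.comap (algebraMap A B) = q) : P.inertia G = ⊥ := by
  classical
  let A' := Localization.AtPrime q
  let M := Algebra.algebraMapSubmonoid B q.primeCompl
  let B' := Localization M
  have hM0 : M ≤ nonZeroDivisors B := by
    rintro _ ⟨a, ha, rfl⟩
    exact mem_nonZeroDivisors_of_ne_zero fun e => ha (by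
      rw [show a = 0 from FaithfulSMul.algebraMap_injective A B (e.trans (map_zero _).symm)]
      exact q.zero_mem)
  have hM : ∀ g : G, ∀ m ∈ M, g • m = m := fun g m ⟨a, _, e⟩ => e ▸ smul_algebraMap g a
  let : MulSemiringAction G B' := MulSemiringAction.compHom B' (locHom M hM B')
  have hact : ∀ (g : G) (b : B), g • algebraMap B B' b = algebraMap B B' (g • b) := fun g b =>
    locHom_algebraMap M hM B' g b
  let : Algebra A' B' := localizationAlgebra q.primeCompl B
  have : IsScalarTower A A' B' := IsScalarTower.of_algebraMap_eq fun a => by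
    rw [IsScalarTower.algebraMap_apply A B B']
    exact (IsLocalization.map_eq _ a).symm
  have : IsDomain B' := IsLocalization.isDomain_localization hM0
  have : IsIntegrallyClosed B' := isIntegrallyClosed_of_isLocalization B' M hM0
  have : Module.Finite A' B' := Module.Finite.of_isLocalization A B q.primeCompl
  have hinjB : Function.Injective (algebraMap B B') := IsLocalization.injective B' hM0
  have hA' : ∀ (g : G) (a : A'), g • algebraMap A' B' a = algebraMap A' B' a := fun g a => by
    obtain ⟨x, t, rfl⟩ := IsLocalization.exists_mk'_eq q.primeCompl a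
    have hu := IsLocalization.map_units A' t
    refine (hu.map (algebraMap A' B')).mul_right_cancel ?_
    have ht : g • algebraMap A' B' (algebraMap A A' t) = algebraMap A' B' (algebraMap A A' t) := by
      rw [← IsScalarTower.algebraMap_apply, IsScalarTower.algebraMap_apply A B B', hact, smul_algebraMap]
    conv_lhs => rw [← ht, ← smul_mul', ← map_mul, IsLocalization.mk'_spec,
      ← IsScalarTower.algebraMap_apply, IsScalarTower.algebraMap_apply A B B', hact, smul_algebraMap]
    rw [← map_mul, IsLocalization.mk'_spec, ← IsScalarTower.algebraMap_apply A B B',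
      ← IsScalarTower.algebraMap_apply A A' B']
  have : SMulCommClass G A' B' := ⟨fun g a b => by
    rw [Algebra.smul_def, Algebra.smul_def, smul_mul', hA']⟩
  have : IsLocalization (Submonoid.map (algebraMap A B) q.primeCompl) B' :=
    (inferInstance : IsLocalization M B')
  have : FaithfulSMul A' B' := (faithfulSMul_iff_algebraMap_injective A' B').mpr
    (IsLocalization.map_injective_of_injective q.primeCompl A' B' (FaithfulSMul.algebraMap_injective A B))
  have : FaithfulSMul G B' := ⟨fun {g g'} e => FaithfulSMul.eq_of_smul_eq_smul (α := B) fun b =>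
    hinjB (by rw [← hact, ← hact, e])⟩
  have : Algebra.IsInvariant A' B' G := ⟨fun z hz => by
    obtain ⟨b, ⟨_, t, ht, rfl⟩, rfl⟩ := IsLocalization.exists_mk'_eq M z
    have hb : ∀ g : G, g • b = b := fun g => hinjB (by
      rw [← hact, ← IsLocalization.mk'_spec B' b (⟨_, t, ht, rfl⟩ : M), smul_mul', hz g, hact,
        smul_algebraMap])
    obtain ⟨a, rfl⟩ := Algebra.IsInvariant.isInvariant (A := A) b hb
    refine ⟨IsLocalization.mk' A' a ⟨t, ht⟩, ?_⟩
    rw [IsLocalization.eq_mk'_iff_mul_eq]
    show _ * algebraMap B B' (algebraMap A B t) = algebraMap B B' (algebraMap A B a)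
    rw [← IsScalarTower.algebraMap_apply, ← IsScalarTower.algebraMap_apply,
      IsScalarTower.algebraMap_apply A A' B', IsScalarTower.algebraMap_apply A A' B', ← map_mul,
      IsLocalization.mk'_spec]⟩
  have hdisj : Disjoint (M : Set B) (P : Set B) := Set.disjoint_left.mpr fun x ⟨a, ha, e⟩ hx =>
    ha (hPq ▸ (show algebraMap A B a ∈ P from e.symm ▸ hx))
  have hP' := IsLocalization.isPrime_of_isPrime_disjoint M B' P hP hdisj
  obtain ⟨d, hd⟩ : ∃ d : ℕ, ringKrullDim A' = d := ⟨_, ((isRegularLocalRing_iff A').1 inferInstance).symm⟩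
  have hres := inertia_eq_bot_aux G d A' B'
    (by rw [hd]) (fun Q' hQ' hh => by
      rw [Subgroup.eq_bot_iff_forall]
      intro g hg
      refine (Subgroup.eq_bot_iff_forall _).mp (h1 (Q'.comap (algebraMap B B')) inferInstance ?_) g
        fun b => ?_
      · have e : (Q'.comap (algebraMap B B')).comap (algebraMap A B) =
            (Q'.comap (algebraMap A' B')).comap (algebraMap A A') := by
          rw [Ideal.comap_comap, Ideal.comap_comap, ← IsScalarTower.algebraMap_eq,
            ← IsScalarTower.algebraMap_eq]
        rw [e]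
        exact (IsLocalization.height_under q.primeCompl (Q'.comap (algebraMap A' B'))).le.trans hh
      · show algebraMap B B' (g • b - b) ∈ Q'
        rw [map_sub, ← hact]; exact hg _) _ hP'
  rw [Subgroup.eq_bot_iff_forall] at hres ⊢
  intro g hg
  refine hres g fun z => ?_
  obtain ⟨b, t, rfl⟩ := IsLocalization.exists_mk'_eq M z
  have ht : g • algebraMap B B' t = algebraMap B B' t := by rw [hact, hM g t t.2]
  have : (g • IsLocalization.mk' B' b t - IsLocalization.mk' B' b t) * algebraMap B B' t =
      algebraMap B B' (g • b - b) := by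
    rw [sub_mul, IsLocalization.mk'_spec, map_sub, ← hact]
    congr 1
    rw [← IsLocalization.mk'_spec B' b t, smul_mul', ht]
  exact (Ideal.mul_unit_mem_iff_mem _ (IsLocalization.map_units B' t)).mp
    (this ▸ Ideal.mem_map_of_mem _ (hg b))

end Groth.Agent.SymSing
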