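import Groth.Agent.SymSing.Dim
import Groth.Agent.SymSing.Loc
import Groth.Agent.SGA1Q.Orbits
import Groth.Agent.SGA1Q.Properties
import Groth.Agent.NeronHDLib.NormalExtend
import Groth.Agent.GrpSchLib.SmoothFgPoints
import Groth.Agent.S6278
import Groth.Agent.S0565
import Groth.Agent.VarDim.Basic
import Groth.Prelude.Def_SymProd

/-!
# The singular locus of a symmetric power
-/

set_option autoImplicit false
set_option backward.isDefEq.respectTransparency false
set_option backward.isDefEq.respectTransparency.types false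
set_option linter.style.haveILetI false
set_option maxHeartbeats 1000000

universe u
open CategoryTheory CategoryTheory.Limits AlgebraicGeometry

noncomputable section

namespace Groth.Agent.SymSing

variable {k : Type u} [Field k] [IsAlgClosed k] {X : Scheme.{u}} (f : X ⟶ Spec (CommRingCat.of k))

omit [IsAlgClosed k] in
/-- The structure map on sections induces the structure morphism. -/
theorem SpecMap_secAlg {Z : Scheme.{u}} (p : Z ⟶ Spec (CommRingCat.of k)) {U : Z.Opens} (hU : IsAffineOpen U) :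
    Spec.map (SmoothCrit.secAlg p U) = hU.fromSpec ≫ p := by
  rw [← IsAffineOpen.SpecMap_appLE_fromSpec p (isAffineOpen_top _) hU le_top, SmoothCrit.secAlg, Spec.map_comp,
    IsAffineOpen.fromSpec_top, Scheme.isoSpec_Spec_inv]

omit [IsAlgClosed k] in
/-- Points with values in `k` are determined by their image. -/
theorem point_ext {L : Type u} [Field L] (a b : Spec (CommRingCat.of L) ⟶ X) (e : k →+* L)
    (he : Function.Surjective e) (ha : a ≫ f = Spec.map (CommRingCat.ofHom e))
    (hb : b ≫ f = Spec.map (CommRingCat.ofHom e)) (hab : a (IsLocalRing.closedPoint L) = b (IsLocalRing.closedPoint L)) :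
    a = b := by
  obtain ⟨U, hU, hxU, -⟩ := exists_isAffineOpen_mem_and_subset (x := a (IsLocalRing.closedPoint L)) (U := ⊤) trivial
  have hr : ∀ c : Spec (CommRingCat.of L) ⟶ X, c (IsLocalRing.closedPoint L) = a (IsLocalRing.closedPoint L) →
      Set.range c ⊆ Set.range hU.fromSpec := by
    rintro c hc _ ⟨p, rfl⟩
    haveI : Subsingleton (Spec (CommRingCat.of L)) := inferInstanceAs (Subsingleton (PrimeSpectrum L))
    rw [hU.range_fromSpec, Subsingleton.elim p (IsLocalRing.closedPoint L), hc]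
    exact hxU
  obtain ⟨φ, hφ⟩ := Spec.map_surjective (IsOpenImmersion.lift hU.fromSpec a (hr a rfl))
  obtain ⟨ψ, hψ⟩ := Spec.map_surjective (IsOpenImmersion.lift hU.fromSpec b (hr b hab.symm))
  have hφ' : Spec.map φ ≫ hU.fromSpec = a := by rw [hφ, IsOpenImmersion.lift_fac]
  have hψ' : Spec.map ψ ≫ hU.fromSpec = b := by rw [hψ, IsOpenImmersion.lift_fac]
  have h1 : SmoothCrit.secAlg f U ≫ φ = CommRingCat.ofHom e := Spec.map_injective (by
    rw [Spec.map_comp, SpecMap_secAlg f hU, ← Category.assoc, hφ', ha])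
  have h2 : SmoothCrit.secAlg f U ≫ ψ = CommRingCat.ofHom e := Spec.map_injective (by
    rw [Spec.map_comp, SpecMap_secAlg f hU, ← Category.assoc, hψ', hb])
  have hpt : Spec.map φ (IsLocalRing.closedPoint L) = Spec.map ψ (IsLocalRing.closedPoint L) :=
    hU.fromSpec.isOpenEmbedding.injective (by
      rw [← Scheme.Hom.comp_apply, ← Scheme.Hom.comp_apply, hφ', hψ', hab])
  have hker : ∀ r, φ.hom r = 0 ↔ ψ.hom r = 0 := fun r => by
    have hI := SetLike.ext_iff.1 (congrArg PrimeSpectrum.asIdeal hpt) r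
    have h0 : ∀ χ : Γ(X, U) ⟶ CommRingCat.of L, r ∈ (Spec.map χ (IsLocalRing.closedPoint L)).asIdeal ↔ χ.hom r = 0 :=
      fun χ => by
        show χ.hom r ∈ IsLocalRing.maximalIdeal L ↔ _
        rw [IsLocalRing.maximalIdeal_eq_bot, Ideal.mem_bot]
    rwa [h0, h0] at hI
  have hφψ : φ = ψ := CommRingCat.hom_ext (RingHom.ext fun r => by
    obtain ⟨c, hc⟩ := he (φ.hom r)
    have e1 : φ.hom ((SmoothCrit.secAlg f U).hom c) = e c := congrArg (fun m => m.hom c) h1
    have e2 : ψ.hom ((SmoothCrit.secAlg f U).hom c) = e c := congrArg (fun m => m.hom c) h2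
    have := (hker (r - (SmoothCrit.secAlg f U).hom c)).1 (by rw [map_sub, e1, hc, sub_self])
    rw [map_sub, sub_eq_zero, e2, hc] at this
    exact this.symm)
  rw [← hφ', ← hψ', hφψ]

variable {n : ℕ} {W : (SymProd.fibPow f n).Opens} (hW : IsAffineOpen W) (Q : Ideal Γ(SymProd.fibPow f n, W))

/-- The point of a prime of an affine open of the power. -/
abbrev pt : Spec (CommRingCat.of (Γ(SymProd.fibPow f n, W) ⧸ Q)) ⟶ SymProd.fibPow f n :=
  Spec.map (CommRingCat.ofHom (Ideal.Quotient.mk Q)) ≫ hW.fromSpec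

omit [IsAlgClosed k] in
theorem fix_iff (σ : Equiv.Perm (Fin n)) (hσ : W ≤ SymProd.permHom f n σ ⁻¹ᵁ W) :
    pt f hW Q ≫ SymProd.permHom f n σ = pt f hW Q ↔
      ∀ b, ((SymProd.permHom f n σ).appLE W W hσ).hom b - b ∈ Q := by
  rw [Category.assoc, ← IsAffineOpen.SpecMap_appLE_fromSpec (SymProd.permHom f n σ) hW hW hσ, ← Category.assoc,
    cancel_mono, ← Spec.map_comp, Spec.map_injective.eq_iff, CommRingCat.hom_ext_iff, RingHom.ext_iff]
  exact forall_congr' fun b => Ideal.Quotient.eq

omit [IsAlgClosed k] in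
/-- A power of a variety with a point fixed by a nontrivial permutation: the point has large codimension. -/
theorem height_lt [IsAlgClosed k] [Smooth f] [IsSeparated f] [IrreducibleSpace X] {d : ℕ}
    (hdim : topologicalKrullDim X = d) (hd : 2 ≤ d) [hQ : Q.IsPrime] (σ : Equiv.Perm (Fin n)) (hne : σ ≠ 1)
    (hfix : pt f hW Q ≫ SymProd.permHom f n σ = pt f hW Q) : 1 < Q.height := by
  obtain ⟨i, hi⟩ : ∃ i, σ.symm i ≠ i := by
    by_contra hc
    push Not at hc
    exact hne (Equiv.ext fun i => by simpa using congrArg σ (hc i).symm)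
  obtain ⟨m, rfl⟩ : ∃ m, n = m + 1 := ⟨n - 1, (Nat.succ_pred_eq_of_pos i.pos).symm⟩
  obtain ⟨j', hj'⟩ := Fin.exists_succAbove_eq hi
  let Δ : SymProd.fibPow f m ⟶ SymProd.fibPow f (m + 1) :=
    WidePullback.lift (WidePullback.base _)
      (i.insertNth (WidePullback.π (fun _ : Fin m => f) j') (fun l => WidePullback.π (fun _ : Fin m => f) l))
      (fun l => by
        rcases Fin.eq_self_or_eq_succAbove i l with rfl | ⟨l, rfl⟩
        · rw [Fin.insertNth_apply_same]; exact WidePullback.π_arrow _ _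
        · rw [Fin.insertNth_apply_succAbove]; exact WidePullback.π_arrow _ _)
  let pr' : SymProd.fibPow f (m + 1) ⟶ SymProd.fibPow f m :=
    WidePullback.lift (WidePullback.base _) (fun l => WidePullback.π (fun _ : Fin (m + 1) => f) (i.succAbove l))
      fun l => WidePullback.π_arrow _ _
  have hsec : Δ ≫ pr' = 𝟙 _ := by
    refine WidePullback.hom_ext _ _ _ (fun l => ?_) ?_
    · rw [Category.assoc, WidePullback.lift_π, WidePullback.lift_π, Fin.insertNth_apply_succAbove, Category.id_comp]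
    · rw [Category.assoc, WidePullback.lift_base, WidePullback.lift_base, Category.id_comp]
  let c := pt f hW Q
  have hij : c ≫ WidePullback.π _ (i.succAbove j') = c ≫ WidePullback.π (fun _ : Fin (m + 1) => f) i := by
    rw [hj']
    have := congrArg (fun a => a ≫ WidePullback.π (fun _ : Fin (m + 1) => f) i) hfix
    simpa only [c, pt, Category.assoc, SymProd.permHom_π] using this
  have hc : (c ≫ pr') ≫ Δ = c := by
    refine WidePullback.hom_ext _ _ _ (fun l => ?_) ?_
    · rw [Category.assoc, Category.assoc, WidePullback.lift_π]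
      rcases Fin.eq_self_or_eq_succAbove i l with rfl | ⟨l, rfl⟩
      · rw [Fin.insertNth_apply_same, WidePullback.lift_π]; exact hij
      · rw [Fin.insertNth_apply_succAbove, WidePullback.lift_π]
    · rw [Category.assoc, Category.assoc, WidePullback.lift_base, WidePullback.lift_base]
  haveI := isSeparated_base f (m + 1)
  haveI : IsSeparated (pr' ≫ WidePullback.base fun _ : Fin m => f) := by
    rw [WidePullback.lift_base]; infer_instance
  haveI : IsSeparated pr' := IsSeparated.of_comp pr' (WidePullback.base fun _ : Fin m => f)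
  haveI : IsClosedImmersion (Δ ≫ pr') := by rw [hsec]; infer_instance
  haveI : IsClosedImmersion Δ := IsClosedImmersion.of_comp Δ pr'
  let Z := Δ ⁻¹ᵁ W
  have hZ : IsAffineOpen Z := hW.preimage Δ
  have hcZ : Set.range (c ≫ pr') ⊆ Set.range hZ.fromSpec := by
    rintro _ ⟨x, rfl⟩
    rw [hZ.range_fromSpec]
    show Δ ((c ≫ pr') x) ∈ W
    rw [← Scheme.Hom.comp_apply, hc, Scheme.Hom.comp_apply, ← SetLike.mem_coe, ← hW.range_fromSpec]
    exact ⟨_, rfl⟩
  obtain ⟨ψ, hψ⟩ := Spec.map_surjective (IsOpenImmersion.lift hZ.fromSpec (c ≫ pr') hcZ)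
  have hψ' : Spec.map ψ ≫ hZ.fromSpec = c ≫ pr' := by rw [hψ, IsOpenImmersion.lift_fac]
  have hmk : Δ.app W ≫ ψ = CommRingCat.ofHom (Ideal.Quotient.mk Q) := by
    apply Spec.map_injective
    rw [← cancel_mono hW.fromSpec, Spec.map_comp, Category.assoc, Scheme.Hom.app_eq_appLE,
      IsAffineOpen.SpecMap_appLE_fromSpec Δ hW hZ le_rfl, ← Category.assoc, hψ', hc]
  have hψs : Function.Surjective ψ.hom := fun y => by
    obtain ⟨b, rfl⟩ := Ideal.Quotient.mk_surjective y
    exact ⟨(Δ.app W).hom b, congrArg (fun a => a.hom b) hmk⟩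
  haveI : Nontrivial (Γ(SymProd.fibPow f (m + 1), W) ⧸ Q) := Ideal.Quotient.nontrivial_iff.2 hQ.ne_top
  haveI : Nonempty (Z : Scheme.{u}) := ⟨hZ.isoSpec.inv (Spec.map ψ (Nonempty.some inferInstance))⟩
  haveI : Nonempty (W : Scheme.{u}) := ⟨hW.isoSpec.inv ⟨Q, hQ⟩⟩
  haveI := isIntegral_fibPow f (m + 1)
  haveI := HilbDLib.smooth_powBase f (m + 1)
  letI := (SmoothCrit.secAlg (WidePullback.base fun _ : Fin (m + 1) => f) W).hom.toAlgebra
  haveI : Algebra.FinitePresentation k Γ(SymProd.fibPow f (m + 1), W) := SmoothCrit.finitePresentation_sec _ hW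
  have hsum := VarDim.height_add_coheight_eq k ((m + 1) * d) Γ(SymProd.fibPow f (m + 1), W)
    (ringKrullDim_sections f d hdim _ hW) ⟨Q, hQ⟩
  have hco : Order.coheight (⟨Q, hQ⟩ : PrimeSpectrum Γ(SymProd.fibPow f (m + 1), W)) ≤ (m * d : ℕ) := by
    have h := VarDim.coheight_eq_ringKrullDim_quotient (⟨Q, hQ⟩ : PrimeSpectrum Γ(SymProd.fibPow f (m + 1), W))
    have h' := (ringKrullDim_le_of_surjective _ hψs).trans_eq (ringKrullDim_sections f d hdim m hZ)
    rw [← h] at h'
    exact_mod_cast h'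
  rw [← (⟨Q, hQ⟩ : PrimeSpectrum Γ(SymProd.fibPow f (m + 1), W)).height_eq_orderHeight] at hsum
  by_contra hle
  have h3 : (((m + 1) * d : ℕ) : ℕ∞) ≤ 1 + (m * d : ℕ) :=
    hsum.symm.le.trans (add_le_add (not_lt.1 hle) hco)
  have h4 : (m + 1) * d ≤ 1 + m * d := by exact_mod_cast h3
  rw [Nat.succ_mul] at h4
  omega

end Groth.Agent.SymSing
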