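import Groth.Agent.HilbDLib.SmoothHilb
import Groth.Agent.H23.EquidimFibres
import Groth.Agent.SmoothCrit.Sch

/-!
# Dimension and integrality of powers of a variety
-/

set_option autoImplicit false
set_option backward.isDefEq.respectTransparency false
set_option backward.isDefEq.respectTransparency.types false
set_option linter.style.haveILetI false

universe u
open CategoryTheory CategoryTheory.Limits AlgebraicGeometry

noncomputable section

namespace Groth.Agent.SymSing

/-- Forgetting the last factor. -/
abbrev prj {X S : Scheme.{u}} (f : X ⟶ S) (n : ℕ) : SymProd.fibPow f (n + 1) ⟶ SymProd.fibPow f n :=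
  WidePullback.lift (WidePullback.base _) (fun i : Fin n => WidePullback.π (fun _ : Fin (n + 1) => f) i.castSucc)
    fun i => WidePullback.π_arrow _ _

theorem isIso_base_zero {X S : Scheme.{u}} (f : X ⟶ S) : IsIso (WidePullback.base fun _ : Fin 0 => f) :=
  ⟨WidePullback.lift (𝟙 S) (fun i => Fin.elim0 i) fun i => Fin.elim0 i,
    WidePullback.hom_ext _ _ _ (fun i => Fin.elim0 i)
      (by rw [Category.assoc, WidePullback.lift_base, Category.comp_id, Category.id_comp]),
    WidePullback.lift_base _ _ _ _⟩

theorem prj_base {X S : Scheme.{u}} (f : X ⟶ S) (n : ℕ) :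
    prj f n ≫ (WidePullback.base fun _ : Fin n => f) = WidePullback.base fun _ : Fin (n + 1) => f :=
  WidePullback.lift_base _ _ _ _

theorem isSeparated_base {X S : Scheme.{u}} (f : X ⟶ S) [IsSeparated f] (n : ℕ) :
    IsSeparated (WidePullback.base fun _ : Fin n => f) := by
  induction n with
  | zero => haveI := isIso_base_zero f; infer_instance
  | succ n ih =>
    haveI := ih
    haveI : IsSeparated (prj f n) :=
      MorphismProperty.of_isPullback (P := @IsSeparated) (HilbDLib.isPullback_succ f n).flip inferInstance
    rw [← prj_base f n]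
    infer_instance

theorem smoothRel_base {X S : Scheme.{u}} (f : X ⟶ S) (d : ℕ) [SmoothOfRelativeDimension d f] (n : ℕ) :
    SmoothOfRelativeDimension (n * d) (WidePullback.base fun _ : Fin n => f) := by
  induction n with
  | zero => haveI := isIso_base_zero f; rw [Nat.zero_mul]; infer_instance
  | succ n ih =>
    haveI := ih
    haveI : SmoothOfRelativeDimension d (prj f n) :=
      haveI := smoothOfRelativeDimension_isStableUnderBaseChange d
      MorphismProperty.of_isPullback (P := @SmoothOfRelativeDimension d) (HilbDLib.isPullback_succ f n).flip ‹_›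
    rw [← prj_base f n, Nat.succ_mul, Nat.add_comm]
    infer_instance

variable {k : Type u} [Field k] [IsAlgClosed k] {X : Scheme.{u}} (f : X ⟶ Spec (CommRingCat.of k))
  [Smooth f] [IrreducibleSpace X]

include f in
theorem isIntegral_of_smooth : IsIntegral X := by
  haveI : IsReduced X :=
    haveI : ∀ x : X, _root_.IsReduced (X.presheaf.stalk x) := fun x => by
      haveI := GrpSchLib.isRegularLocalRing_stalk_of_smooth f x
      haveI := RegLoc6.isDomain_of_isRegularLocalRing (X.presheaf.stalk x)
      infer_instance
    isReduced_of_isReduced_stalk X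
  exact isIntegral_of_irreducibleSpace_of_isReduced X

theorem isIntegral_fibPow (n : ℕ) : IsIntegral (SymProd.fibPow f n) := by
  haveI := isIntegral_of_smooth f
  haveI : GeometricallyIntegral f :=
    haveI : IsIntegral (Over.mk f).left := ‹IsIntegral X›
    H23.EquidimFibres.geometricallyIntegral_of_isAlgClosed (V := Over.mk f)
  induction n with
  | zero =>
    haveI := isIso_base_zero f
    haveI : Nonempty (SymProd.fibPow f 0) := ⟨inv (WidePullback.base fun _ : Fin 0 => f) (IsLocalRing.closedPoint k)⟩
    exact isIntegral_of_isOpenImmersion (WidePullback.base fun _ : Fin 0 => f)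
  | succ n ih =>
    haveI := ih
    haveI := HilbDLib.smooth_powBase f n
    haveI : IsLocallyNoetherian (SymProd.fibPow f n) :=
      LocallyOfFiniteType.isLocallyNoetherian (WidePullback.base fun _ : Fin n => f)
    let e := (HilbDLib.isPullback_succ f n).flip.isoPullback
    haveI : IsIntegral (pullback f (WidePullback.base fun _ : Fin n => f)) := inferInstance
    haveI : Nonempty (SymProd.fibPow f (n + 1)) :=
      ⟨e.inv (Nonempty.some (inferInstance : Nonempty ↥(pullback f (WidePullback.base fun _ : Fin n => f))))⟩
    exact isIntegral_of_isOpenImmersion e.hom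

theorem ringKrullDim_sections (d : ℕ) (hd : topologicalKrullDim X = d) (n : ℕ)
    {W : (SymProd.fibPow f n).Opens} (hW : IsAffineOpen W) [hne : Nonempty (W : Scheme.{u})] :
    ringKrullDim Γ(SymProd.fibPow f n, W) = (n * d : ℕ) := by
  haveI := SmoothCrit.smoothOfRelativeDimension_dim f d hd
  haveI := smoothRel_base f d n
  haveI := HilbDLib.smooth_powBase f n
  haveI := isIntegral_fibPow f n
  let p : (W : Scheme.{u}) ⟶ Spec (CommRingCat.of k) := W.ι ≫ WidePullback.base fun _ : Fin n => f
  haveI : IsIntegral (W : Scheme.{u}) := isIntegral_of_isOpenImmersion W.ι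
  haveI : SmoothOfRelativeDimension (0 + n * d) p := smoothOfRelativeDimension_comp _ _ _ _
  haveI : SmoothOfRelativeDimension (n * d) (𝟙 (W : Scheme.{u}) ≫ p) := by
    rw [Category.id_comp]; exact Nat.zero_add (n * d) ▸ ‹SmoothOfRelativeDimension (0 + n * d) p›
  haveI : Smooth p := inferInstanceAs (Smooth (W.ι ≫ _))
  have h := SmoothCrit.eq_dim p (𝟙 (W : Scheme.{u})) (n * d)
  rw [IsHomeomorph.topologicalKrullDim_eq _ hW.isoSpec.hom.homeomorph.isHomeomorph] at h
  rw [← PrimeSpectrum.topologicalKrullDim_eq_ringKrullDim]
  exact h

end Groth.Agent.SymSing
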